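import Cfsg.Agent.H271.LB3.Base

/-!
# Alternating groups
-/

set_option autoImplicit false
set_option linter.unusedSectionVars false
set_option linter.unusedVariables false

open Subgroup

namespace Cfsg.Agent.H271.LB3

theorem alt_nine {n : ℕ} (hn : 9 ≤ n) : ∃ x : alternatingGroup (Fin n), orderOf x = 9 := by
  let φ : Equiv.Perm (Fin 9) →* Equiv.Perm (Fin n) := Equiv.Perm.viaEmbeddingHom (Fin.castLEEmb hn)
  have hφ : Function.Injective φ := Equiv.Perm.viaEmbeddingHom_injective _
  let c : Equiv.Perm (Fin 9) := finRotate 9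
  have h1 : orderOf c = 9 := by
    have h2 : (finRotate 9).IsCycle := isCycle_finRotate
    rw [h2.orderOf, support_finRotate]
    rfl
  have h3 : orderOf (φ c) = 9 := by rw [orderOf_injective φ hφ, h1]
  have h4 : Equiv.Perm.sign (φ c) = 1 := by
    have h5 : (Equiv.Perm.sign (φ c)) ^ 9 = 1 := by
      have h7 : φ c ^ 9 = 1 := orderOf_dvd_iff_pow_eq_one.1 (by rw [h3])
      rw [← map_pow, h7, map_one]
    rcases Int.units_eq_one_or (Equiv.Perm.sign (φ c)) with h6 | h6
    · exact h6
    · rw [h6] at h5
      exact absurd h5 (by decide)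
  exact ⟨⟨φ c, Equiv.Perm.mem_alternatingGroup.2 h4⟩, (Subgroup.orderOf_mk _ _).trans h3⟩

theorem alt_row {n : ℕ} (hn : 5 ≤ n) (h : Bad (alternatingGroup (Fin n))) : False := by
  rcases Nat.lt_or_ge n 9 with h1 | h1
  · have h2 := h.dvd
    have h3 : 2 * Nat.card (alternatingGroup (Fin n)) = n.factorial := by
      have : Nontrivial (Fin n) := Fin.nontrivial_iff_two_le.2 (by omega)
      rw [Nat.card_eq_fintype_card]
      have := two_mul_card_alternatingGroup (α := Fin n)
      rw [Fintype.card_perm, Fintype.card_fin] at this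
      exact this
    have h4 : 27 ∣ n.factorial := by rw [← h3]; exact dvd_mul_of_dvd_right h2 _
    interval_cases n <;> revert h4 <;> decide
  · obtain ⟨x, hx⟩ := alt_nine h1
    exact h.not_nine hx

end Cfsg.Agent.H271.LB3
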