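import Cfsg.Agent.H271.LB3.PSU
import Cfsg.Agent.H271.LB3.PSp
import Cfsg.Agent.H271.LB3.Orth
import Cfsg.Agent.H271.LB3.Alt
import Cfsg.Agent.H710.LB3.Exc

/-!
# S4879, `p = 3`: the simple groups with elementary abelian Sylow 3-subgroups of order at least 27

`three_names` : they are `PSL₂(3ⁿ)` and `O'N` (helper271, helper710, after `H334/Star`).
-/

set_option autoImplicit false

namespace Cfsg.Agent.H271.LB3

open Cfsg

universe u

theorem mod_or (F : Type) [Field F] [Fintype F] : CharP F 3 ∨ Fintype.card F % 3 ≠ 0 := by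
  by_cases h : (3 : F) = 0
  · left
    obtain ⟨p, hp⟩ := CharP.exists F
    have h1 : p ∣ 3 := (CharP.cast_eq_zero_iff F p 3).1 (by exact_mod_cast h)
    have h2 : p ≠ 1 := CharP.char_ne_one F p
    have h3 : p = 3 := ((Nat.dvd_prime Nat.prime_three).1 h1).resolve_left h2
    subst h3
    exact hp
  · right
    intro h0
    obtain ⟨p, hp⟩ := CharP.exists F
    have hpp : p.Prime := (CharP.char_is_prime_or_zero F p).resolve_right (CharP.char_ne_zero_of_finite F p)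
    have : Fact p.Prime := ⟨hpp⟩
    obtain ⟨n, -, hn⟩ := FiniteField.card F p
    have h1 : 3 ∣ p ^ (n : ℕ) := by rw [← hn]; exact Nat.dvd_of_mod_eq_zero h0
    have h2 := (Nat.prime_dvd_prime_iff_eq Nat.prime_three hpp).1 (Nat.prime_three.dvd_of_dvd_pow h1)
    subst h2
    exact h (by exact_mod_cast CharP.cast_eq_zero F 3)

/-- **The simple groups with elementary abelian Sylow 3-subgroups of order at least 27.** -/
theorem three_names {S : Type u} [Group S] [Finite S] [IsSimpleGroup S] (hk : IsKnownSimple' S)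
    (hcard : ∀ P : Sylow 3 S, 27 ≤ Nat.card P)
    (hcomm : ∀ Q : Subgroup S, IsPGroup 3 Q → ∀ a ∈ Q, ∀ b ∈ Q, a * b = b * a)
    (hexp : ∀ (x : S) (k : ℕ), x ^ 3 ^ k = 1 → x ^ 3 = 1) :
    (∃ (F : Type) (_ : Field F) (_ : Fintype F) (n : ℕ), Fintype.card F = 3 ^ n ∧
      Nonempty (S ≃* Matrix.ProjectiveSpecialLinearGroup (Fin 2) F)) ∨ Spor.IsoON S := by
  have h : Bad S := by
    refine ⟨fun P x hx => ⟨?_, fun y hy => hcomm P P.isPGroup' x hx y hy⟩, fun P => ?_⟩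
    · obtain ⟨k, hk⟩ := P.isPGroup' ⟨x, hx⟩
      exact hexp x k (congrArg Subtype.val hk)
    · exact lt_of_lt_of_le (by norm_num) (hcard P)
  have h27 := h.dvd
  have hc := H710.LB3.noncomm ((by norm_num : 9 ∣ 27).trans h27)
  have own : IsLieTypeChar 3 S → ∃ (F : Type) (_ : Field F) (_ : Fintype F) (n : ℕ), Fintype.card F = 3 ^ n ∧
      Nonempty (S ≃* Matrix.ProjectiveSpecialLinearGroup (Fin 2) F) := fun h1 => by
    obtain ⟨F, i1, i2, n, hn, -, e⟩ := H710.LB3.own_three' hc hcomm h1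
    exact ⟨F, i1, i2, n, hn, e⟩
  rcases hk with h1 | h1 | h1 | h1 | h1 | h1 | h1 | h1 | h1 | h1
  · exfalso
    have h2 : (Nat.card S).Prime := h1
    have h3 := (Nat.prime_dvd_prime_iff_eq Nat.prime_three h2).1 ((by norm_num : 3 ∣ 27).trans h27)
    rw [← h3] at h27
    norm_num at h27
  · obtain ⟨n, hn, ⟨e⟩⟩ := h1
    exact (alt_row hn (h.of_equiv e)).elim
  · obtain ⟨F, _, _, n, hn, hF, ⟨e⟩⟩ := h1
    rcases mod_or F with hc | hc
    · exact Or.inl (own (Or.inl ⟨F, inferInstance, inferInstance, hc, n, hn, hF, ⟨e⟩⟩))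
    · exact (PSL.row hn hc (h.of_equiv e)).elim
  · obtain ⟨F, _, _, n, hn, hF, ⟨e⟩⟩ := h1
    rcases mod_or F with hc | hc
    · exact Or.inl (own (Or.inr (Or.inl ⟨F, inferInstance, inferInstance, hc, n, hn, hF, ⟨e⟩⟩)))
    · exact (PSp.row hn hc (h.of_equiv e)).elim
  · obtain ⟨F, _, _, n, q, hF, hn, hq, ⟨e⟩⟩ := h1
    rcases mod_or F with hc | hc
    · exact Or.inl (own (Or.inr (Or.inr (Or.inl ⟨F, inferInstance, inferInstance, hc, n, q, hF, hn, hq, ⟨e⟩⟩))))
    · refine (PSU.row hF hn ?_ (h.of_equiv e)).elim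
      intro h0
      apply hc
      rw [hF, Nat.pow_mod, h0]
  · obtain ⟨F, _, _, m, hm, hF, ⟨e⟩⟩ := h1
    rcases mod_or F with hc | hc
    · exact Or.inl (own (Or.inr (Or.inr (Or.inr (Or.inl ⟨F, inferInstance, inferInstance, hc, m, hm, hF, ⟨e⟩⟩)))))
    · exact (Orth.odd_row hm hF hc (h.of_equiv e)).elim
  · obtain ⟨F, _, _, m, hm, ⟨e⟩⟩ := h1
    rcases mod_or F with hc | hc
    · exact Or.inl (own (Or.inr (Or.inr (Or.inr (Or.inr (Or.inl ⟨F, inferInstance, inferInstance, hc, m, hm, ⟨e⟩⟩))))))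
    · exact (Orth.plus_row hm hc (h.of_equiv e)).elim
  · obtain ⟨F, _, _, m, a, b, hm, hab, ⟨e⟩⟩ := h1
    rcases mod_or F with hc | hc
    · exact Or.inl (own (Or.inr (Or.inr (Or.inr (Or.inr (Or.inr (Or.inl
        ⟨F, inferInstance, inferInstance, hc, m, a, b, hm, hab, ⟨e⟩⟩)))))))
    · exact (Orth.minus_row hm a b hab hc (h.of_equiv e)).elim
  · exact (H710.LB3.exc_three h1 ((by norm_num : 9 ∣ 27).trans h27) hcomm).elim
  · exact Or.inr (H710.LB3.spor_three h1 h27 hcomm)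

end Cfsg.Agent.H271.LB3
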