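import Cfsg.Agent.H271.LB3.Base
import Cfsg.Agent.H794.DefAb
import Cfsg.Agent.H573.DefCharLie

/-!
# Lie type in characteristic 3: `Bad K` implies `K ≅ PSL₂(F)`
-/

set_option autoImplicit false
set_option linter.unusedSectionVars false
set_option linter.unusedVariables false

namespace Cfsg.Agent.H271.LB3

open Cfsg Cfsg.Agent.H794.DefRank Cfsg.Agent.H794.DefClosed

open CoxeterSystem Cfsg.Agent.ChevalleyStructure.CoxeterGeom Cfsg.Agent.Tits.Roots Cfsg.Agent.Tits.Core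
  Cfsg.Agent.Tits.Exchange Cfsg.Agent.Nodes.Reps Cfsg.Agent.Nodes.BNOf Cfsg.Agent.Nodes.BNOf.RGD
  Cfsg.Agent.Nodes.StabComb
  Cfsg.Agent.Nodes.Bruhat Cfsg.Agent.Nodes.OppDec Cfsg.Agent.Nodes.LeviDec Cfsg.Agent.Nodes.NormalForm
  Cfsg.Agent.Schreier.BNSch

/-- groups with a root group datum of rank `≥ 2` have nonabelian Sylow `p`-subgroups -/
theorem notAb_of_rk2 {p : ℕ} [Fact p.Prime] {G : Type*} [Group G] [Finite G] [IsSimpleGroup G]
    (hc : ∃ a b : G, a * b ≠ b * a) (hG : HasRk2 p G) : ∃ S : Sylow p G, ¬ IsMulCommutative (S : Subgroup G) := by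
  obtain ⟨l, M, A, h, T, n, X, R, hl, hW, hX⟩ := hG
  have hc' := Cfsg.Agent.KFacts.RgdLieCharP.center_eq_bot hc
  have hconn := Cfsg.Agent.KFacts.RgdLieCharP.conn_of_simple R hX hc'
  have hN := Cfsg.Agent.KFacts.RgdLieCharP.noCent_of_center (T := T) hX hc'
  have hGG : GG M.toCoxeterSystem h T X = ⊤ := by
    rw [eq_top_iff]
    refine le_trans ?_ (le_sup_right : _ ≤ GG M.toCoxeterSystem h T X)
    exact (le_of_eq hX.symm)
  have hgen := Cfsg.Agent.Nodes.RGDLib.rgd_gen_of_G1 R hX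
  have hidx : ¬ p ∣ (Sup X (Pos M.toCoxeterSystem h)).index := by
    have := Cfsg.Agent.KFacts.RgdSyl.not_dvd_relIndex R
    rwa [hGG, Subgroup.relIndex_top_right] at this
  let U : Sylow p G := R.isPGroup_Upos.toSylow hidx
  refine ⟨U, fun hU => ?_⟩
  have hUc : ∀ x ∈ Sup X (Pos M.toCoxeterSystem h), ∀ y ∈ Sup X (Pos M.toCoxeterSystem h), y * x = x * y := by
    intro x hx y hy
    exact congrArg Subtype.val (hU.is_comm.comm ⟨y, hy⟩ ⟨x, hx⟩)
  let i : Fin l := ⟨0, by omega⟩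
  let j : Fin l := ⟨1, by omega⟩
  have hij : i ≠ j := by
    intro e
    have := congrArg Fin.val e
    simp [i, j] at this
  obtain ⟨x, hx, hxV⟩ := Cfsg.Agent.H573.DefChar.exists_regular R hgen
  have hJ : ({i} : Set (Fin l)) ≠ Set.univ := by
    intro e
    have : j ∈ ({i} : Set (Fin l)) := by rw [e]; trivial
    exact hij (Set.mem_singleton_iff.1 this).symm
  have hle : VJ M.toCoxeterSystem h X {i} ≤ Sup X (PosNe M.toCoxeterSystem h i) := by
    refine Sup_mono fun z hz => ⟨hz.1, hz.2.1, ?_⟩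
    rintro rfl
    obtain ⟨k, hk, hk2⟩ := hz.2.2
    rw [sr_ne (fun e => hk (Set.mem_singleton_iff.2 e))] at hk2
    exact absurd hk2 (lt_irrefl _)
  have hle2 : VJ M.toCoxeterSystem h X {i} ≤ Sup X (Pos M.toCoxeterSystem h) := Sup_mono fun z hz => ⟨hz.1, hz.2.1⟩
  apply hxV i
  apply hle
  refine Cfsg.Agent.KFacts.RgdVJ.cent_VJ_le R hN hconn hJ (Subgroup.mem_inf.2 ⟨?_, by rw [hGG]; trivial⟩)
  rw [Subgroup.mem_centralizer_iff]
  intro v hv
  exact hUc x hx v (hle2 hv)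

/-- **Characteristic 3.** -/
theorem own {K : Type*} [Group K] [Finite K] [IsSimpleGroup K] (hc : ∃ a b : K, a * b ≠ b * a) (h : Bad K)
    (hK : IsLieTypeChar 3 K) : ∃ (F : Type) (_ : Field F) (_ : Fintype F) (_ : CharP F 3),
      Nonempty (K ≃* Matrix.ProjectiveSpecialLinearGroup (Fin 2) F) := by
  have : Fact (Nat.Prime 3) := ⟨Nat.prime_three⟩
  rcases rk2_or (by norm_num) hK with h1 | ⟨F, i1, i2, i3, -, h1⟩ | ⟨F, i1, i2, i3, q, hF, -, ⟨e⟩⟩ | ⟨-, h1⟩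
  · exact (h.false_of_notAb (notAb_of_rk2 hc h1)).elim
  · exact ⟨F, i1, i2, i3, h1⟩
  · exfalso
    have h2 : Cfsg.Agent.H800.Sp.NotAb 3 (PSU 3 F q) := Cfsg.Agent.H794.PsuNotAb.notAb hF le_rfl
    exact (h.of_equiv e).false_of_notAb ⟨default, h2 _⟩
  · exfalso
    exact h.false_of_notAb ⟨default, Cfsg.Agent.H794.DefAb.notAb_ree h1 _⟩

end Cfsg.Agent.H271.LB3
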